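import Groth.Agent.Thicken.Affine
import Groth.Agent.QCohLib.Exact
import Mathlib

/-! A continuous map out of a nilpotent thickening of a scheme affine over `U` has affine preimages of
affine opens. -/

set_option autoImplicit false
set_option linter.style.haveILetI false
set_option backward.isDefEq.respectTransparency false

universe u

open CategoryTheory CategoryTheory.Limits AlgebraicGeometry TopologicalSpace Opposite Topology

namespace Groth.Agent.NilPushLib

theorem surjective_app_of_epi {Y : Scheme.{u}} {E E' : Y.Modules} (hE : Coh.IsQCoh E) (hE' : Coh.IsQCoh E')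
    (π : E ⟶ E') [Epi π] {U : Y.Opens} (hU : IsAffineOpen U) : Function.Surjective (π.app U) := by
  have hS : (ShortComplex.mk (kernel.ι π) π (kernel.condition π)).ShortExact :=
    { exact := ShortComplex.exact_kernel π }
  exact QCohLib.app_surjective hS (QCohLib.isQCoh_X₁ hS hE hE') hU

variable {T Tc U : Scheme.{u}} (i : T ⟶ Tc) [IsClosedImmersion i]
  (hnil : ∃ n : ℕ, ∀ V : Tc.affineOpens, i.ker.ideal V ^ n = ⊥)
  (u : T ⟶ U) [IsAffineHom u] (g : Tc.carrier ⟶ U.carrier) (hg : i.base ≫ g = u.base)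

include hnil in
theorem surjective : Function.Surjective i := by
  intro x
  obtain ⟨n, hn⟩ := hnil
  obtain ⟨_, ⟨V, hV, rfl⟩, hxV, -⟩ := Tc.isBasis_affineOpens.exists_subset_of_mem_open
    (Set.mem_univ x) isOpen_univ
  have hx : x ∈ i.ker.support := by
    rw [Scheme.IdealSheafData.mem_support_iff_of_mem (U := ⟨V, hV⟩) hxV, Scheme.mem_zeroLocus_iff]
    intro a ha hxa
    have ha' : IsNilpotent a := ⟨n, (Ideal.mem_bot (R := Γ(Tc, V))).1 (hn ⟨V, hV⟩ ▸ Ideal.pow_mem_pow ha n)⟩
    rw [Scheme.mem_basicOpen _ _ _ hxV] at hxa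
    exact ((ha'.map (Tc.presheaf.germ V x hxV).hom).not_isUnit) hxa
  rw [← SetLike.mem_coe, Scheme.Hom.support_ker, i.isClosedEmbedding.isClosed_range.closure_eq] at hx
  exact hx

include hnil hg in
theorem isAffineOpen_preimage {V : U.Opens} (hV : IsAffineOpen V) :
    IsAffineOpen ((Opens.map g).obj V : Tc.Opens) := by
  set W : Tc.Opens := (Opens.map g).obj V with hW
  have e : i ⁻¹ᵁ W = u ⁻¹ᵁ V := by
    ext x
    show g (i.base x) ∈ V ↔ u.base x ∈ V
    rw [← hg]
    rfl
  haveI : IsAffine (i ⁻¹ᵁ W).toScheme := e ▸ hV.preimage u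
  haveI : Surjective i := ⟨surjective i hnil⟩
  haveI : IsClosedImmersion (i ∣_ W) := IsZariskiLocalAtTarget.restrict (P := @IsClosedImmersion) inferInstance W
  haveI : Surjective (i ∣_ W) := IsZariskiLocalAtTarget.restrict (P := @Surjective) inferInstance W
  exact Thicken.isAffine (i ∣_ W) (i ∣_ W).surjective

end Groth.Agent.NilPushLib
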