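import Groth.Agent.NilPushLib.QC
import Groth.Agent.FPLocal.Glue

/-! Direct image is fully faithful on quasi-coherent modules, so the counit is an isomorphism. -/

set_option autoImplicit false
set_option linter.style.haveILetI false
set_option linter.unusedVariables false
set_option backward.isDefEq.respectTransparency false
set_option backward.isDefEq.respectTransparency.types false
set_option maxHeartbeats 1000000

universe u

open CategoryTheory CategoryTheory.Limits AlgebraicGeometry TopologicalSpace Opposite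
open Groth.Agent.FPLocal

noncomputable section

namespace Groth.Agent.NilPushLib

variable {T Tc U : Scheme.{u}} (i : T ⟶ Tc) [IsClosedImmersion i]
  (hnil : ∃ n : ℕ, ∀ V : Tc.affineOpens, i.ker.ideal V ^ n = ⊥)
  (u : T ⟶ U) [IsAffineHom u] (g : Tc.carrier ⟶ U.carrier) (hg : i.base ≫ g = u.base)
  {M M' : Tc.Modules} [Coh.IsQCoh M]

/-- The map on sections of a map of direct images. -/
abbrev thetaS {g : Tc.carrier ⟶ U.carrier} {M M' : Tc.Modules} (θ : (vPush g).obj M ⟶ (vPush g).obj M') (V : U.Opens) :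
    Γ(M, (Opens.map g).obj V) →ₗ[Γ(Tc, (Opens.map g).obj V)] Γ(M', (Opens.map g).obj V) where
  toFun s := (θ.val.app (op V)).hom s
  map_add' a b := map_add (θ.val.app (op V)).hom a b
  map_smul' r a := map_smul (θ.val.app (op V)).hom r a

theorem thetaS_res {g : Tc.carrier ⟶ U.carrier} {M M' : Tc.Modules} (θ : (vPush g).obj M ⟶ (vPush g).obj M')
    {V W : U.Opens} (h : V ≤ W) (s : Γ(M, (Opens.map g).obj W)) :
    thetaS θ V (M.presheaf.map ((Opens.map g).map (homOfLE h)).op s) =
      M'.presheaf.map ((Opens.map g).map (homOfLE h)).op (thetaS θ W s) :=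
  PresheafOfModules.naturality_apply θ.val (homOfLE h).op s

/-- The value of a formal combination. -/
abbrev comb (N : Tc.Modules) {Z : Tc.Opens} {J : Type u} [Fintype J] {W : J → U.Opens}
    (hW : ∀ j, Z ≤ (Opens.map g).obj (W j)) (a : J → Γ(Tc, Z)) (s : ∀ j, Γ(N, (Opens.map g).obj (W j))) : Γ(N, Z) :=
  ∑ j, a j • (N.presheaf.map (homOfLE (hW j)).op (s j) : Γ(N, Z))

omit [Coh.IsQCoh M] in
theorem comb_res (N : Tc.Modules) {Z Z' : Tc.Opens} (h : Z' ≤ Z) {J : Type u} [Fintype J] {W : J → U.Opens}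
    (hW : ∀ j, Z ≤ (Opens.map g).obj (W j)) (a : J → Γ(Tc, Z)) (s : ∀ j, Γ(N, (Opens.map g).obj (W j))) :
    N.presheaf.map (homOfLE h).op (comb g N hW a s) =
      comb g N (fun j => h.trans (hW j)) (fun j => Tc.presheaf.map (homOfLE h).op (a j)) s := by
  rw [comb, map_sum]
  exact Finset.sum_congr rfl fun j _ => by rw [Scheme.Modules.map_smul, CohBase.restr_trans]

include hnil hg in
theorem comb_zero (θ : (vPush g).obj M ⟶ (vPush g).obj M') {Z : Tc.Opens} {J : Type u} [Fintype J]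
    {W : J → U.Opens} (hW : ∀ j, Z ≤ (Opens.map g).obj (W j)) (a : J → Γ(Tc, Z))
    (s : ∀ j, Γ(M, (Opens.map g).obj (W j))) (h0 : comb g M hW a s = 0) :
    comb g M' hW a (fun j => thetaS θ (W j) (s j)) = 0 := by
  classical
  refine eq_of_locally (M := M') (V := Z) ⟨⟨fun Y _ => ∃ (V : U.Opens) (f : Γ(Tc, (Opens.map g).obj V)),
      IsAffineOpen V ∧ (∀ j, V ≤ W j) ∧ Tc.basicOpen f ≤ Z ∧ Y ≤ Tc.basicOpen f,
    fun ⟨V, f, h1, h2, h3, h4⟩ k => ⟨V, f, h1, h2, h3, k.le.trans h4⟩⟩, fun x hx => ?_,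
    fun Y k ⟨V, f, hV, hVW, hfZ, hY⟩ => ?_⟩
  · obtain ⟨_, ⟨V, hV, rfl⟩, hxV, hVW⟩ := U.isBasis_affineOpens.exists_subset_of_mem_open
      (show g x ∈ ⋂ j, (W j : Set U) from Set.mem_iInter.2 fun j => hW j hx)
      (isOpen_iInter_of_finite fun j => (W j).2)
    have hA : x ∈ (Opens.map g).obj V := hxV
    obtain ⟨f, hf, hxf⟩ := (isAffineOpen_preimage i hnil u g hg hV).exists_basicOpen_le ⟨x, hx⟩ hA
    exact ⟨Tc.basicOpen f, homOfLE hf, ⟨V, f, hV, fun j => fun y hy => Set.mem_iInter.1 (hVW hy) j, hf, le_rfl⟩, hxf⟩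
  let A : Tc.Opens := (Opens.map g).obj V
  let d : J → Γ(Tc, Tc.basicOpen f) := fun j => Tc.presheaf.map (homOfLE hfZ).op (a j)
  let t : J → Γ(M, A) := fun j => M.presheaf.map ((Opens.map g).map (homOfLE (hVW j))).op (s j)
  have hd : ∑ j, d j • (M.presheaf.map (homOfLE (Tc.basicOpen_le f)).op (t j) : Γ(M, Tc.basicOpen f)) = 0 := by
    have e := congrArg (M.presheaf.map (homOfLE hfZ).op) h0
    rw [comb_res, map_zero] at e
    refine Eq.trans (Finset.sum_congr rfl fun j _ => congrArg (d j • ·) ?_) e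
    exact CohBase.restr_trans M _ _ _
  obtain ⟨N, b, hb, -, hbs⟩ := exists_relation M (isAffineOpen_preimage i hnil u g hg hV) f Finset.univ d t hd
  have hbs' : ∑ j, b j • thetaS θ V (t j) = 0 := by
    have e := congrArg (thetaS θ V) hbs
    rw [map_sum, map_zero] at e
    exact Eq.trans (Finset.sum_congr rfl fun j _ => (map_smul _ _ _).symm) e
  have hu : IsUnit (((Tc.presheaf.map (homOfLE (Tc.basicOpen_le f)).op).hom f : Γ(Tc, Tc.basicOpen f)) ^ N) :=
    IsUnit.pow N (Tc.toRingedSpace.isUnit_res_basicOpen f)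
  have e1 : M'.presheaf.map (homOfLE hfZ).op (comb g M' hW a (fun j => thetaS θ (W j) (s j))) = 0 := by
    have e := congrArg (M'.presheaf.map (homOfLE (Tc.basicOpen_le f)).op) hbs'
    rw [map_sum, map_zero] at e
    rw [comb_res]
    refine (IsUnit.smul_eq_zero hu).1 ?_
    rw [comb, Finset.smul_sum]
    refine Eq.trans (Finset.sum_congr rfl fun j hj => ?_) e
    rw [Scheme.Modules.map_smul, hb j hj, mul_smul, thetaS_res]
    refine congrArg (fun z : Γ(M', Tc.basicOpen f) => _ • (d j • z)) ?_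
    exact (CohBase.restr_trans M' _ _ _).symm
  refine Eq.trans ?_ (map_zero (mres M' k.op)).symm
  have e2 := congrArg (M'.presheaf.map (homOfLE hY).op) e1
  rw [CohBase.restr_trans, map_zero] at e2
  exact e2

/-- The graph of the map induced by a map of direct images. -/
def Graph {g : Tc.carrier ⟶ U.carrier} {M M' : Tc.Modules} (θ : (vPush g).obj M ⟶ (vPush g).obj M') (Z : Tc.Opens)
    (m : Γ(M, Z)) (n : Γ(M', Z)) : Prop :=
  ∃ (J : Type u) (_ : Fintype J) (W : J → U.Opens) (hW : ∀ j, Z ≤ (Opens.map g).obj (W j)) (a : J → Γ(Tc, Z))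
    (s : ∀ j, Γ(M, (Opens.map g).obj (W j))),
    comb g M hW a s = m ∧ comb g M' hW a (fun j => thetaS θ (W j) (s j)) = n

include hnil hg in
theorem exists_lift (θ : (vPush g).obj M ⟶ (vPush g).obj M') : ∃ β : M ⟶ M', (vPush g).map β = θ := by
  classical
  obtain ⟨β, hβ⟩ := exists_hom_of_graph (M := M) (N := M') (fun Z m n => Graph θ Z m n)
    (by
      rintro V Z k m n ⟨J, _, W, hW, a, s, rfl, rfl⟩
      exact ⟨J, inferInstance, W, fun j => k.le.trans (hW j), fun j => Tc.presheaf.map (homOfLE k.le).op (a j), s,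
        (comb_res g M k.le hW a s).symm, (comb_res g M' k.le hW a _).symm⟩)
    (by
      rintro Z _ _ _ _ ⟨J, _, W, hW, a, s, rfl, rfl⟩ ⟨J', _, W', hW', a', s', rfl, rfl⟩
      refine ⟨J ⊕ J', inferInstance, fun j => Sum.elim W W' j, fun j => by cases j; exacts [hW _, hW' _],
        fun j => Sum.elim a a' j, fun j => by cases j; exacts [s _, s' _], ?_, ?_⟩
      · rw [comb, Fintype.sum_sum_type]; rfl
      · rw [comb, Fintype.sum_sum_type]; rfl)
    (by
      rintro Z r _ _ ⟨J, _, W, hW, a, s, rfl, rfl⟩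
      refine ⟨J, inferInstance, W, hW, fun j => (show Γ(Tc, Z) from r) * a j, s, ?_, ?_⟩
      · exact (Finset.sum_congr rfl fun j _ => mul_smul (show Γ(Tc, Z) from r) (a j) _).trans (Finset.smul_sum).symm
      · exact (Finset.sum_congr rfl fun j _ => mul_smul (show Γ(Tc, Z) from r) (a j) _).trans (Finset.smul_sum).symm)
    (by
      rintro Z m n n' ⟨J, _, W, hW, a, s, h1, rfl⟩ ⟨J', _, W', hW', a', s', h2, rfl⟩
      have h0 : comb g M (J := J ⊕ J') (W := fun j => Sum.elim W W' j) (fun j => by cases j; exacts [hW _, hW' _])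
          (fun j => Sum.elim a (fun l => -a' l) j) (fun j => by cases j; exacts [s _, s' _]) = 0 := by
        rw [comb, Fintype.sum_sum_type]
        show comb g M hW a s + ∑ l, (-a' l) • _ = 0
        rw [Finset.sum_congr rfl fun l _ => neg_smul (a' l) _, Finset.sum_neg_distrib, h1,
          ← sub_eq_add_neg]
        exact sub_eq_zero.2 h2.symm
      have e := comb_zero i hnil u g hg θ _ _ _ h0
      rw [comb, Fintype.sum_sum_type] at e
      refine sub_eq_zero.1 (Eq.trans ?_ e)
      rw [sub_eq_add_neg]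
      refine congrArg₂ (· + ·) rfl ?_
      exact (Finset.sum_neg_distrib (f := fun l => a' l • _)).symm.trans
        (Finset.sum_congr rfl fun l _ => (neg_smul (a' l) _).symm))
    (by
      intro Z m
      refine ⟨⟨fun Y _ => ∃ (V : U.Opens) (f : Γ(Tc, (Opens.map g).obj V)),
          IsAffineOpen V ∧ Tc.basicOpen f ≤ Z ∧ Y ≤ Tc.basicOpen f,
        fun ⟨V, f, h1, h3, h4⟩ k => ⟨V, f, h1, h3, k.le.trans h4⟩⟩, fun x hx => ?_,
        fun Y k ⟨V, f, hV, hfZ, hY⟩ => ?_⟩
      · obtain ⟨_, ⟨V, hV, rfl⟩, hxV, -⟩ := U.isBasis_affineOpens.exists_subset_of_mem_open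
          (Set.mem_univ (g x)) isOpen_univ
        have hA : x ∈ (Opens.map g).obj V := hxV
        obtain ⟨f, hf, hxf⟩ := (isAffineOpen_preimage i hnil u g hg hV).exists_basicOpen_le ⟨x, hx⟩ hA
        exact ⟨Tc.basicOpen f, homOfLE hf, ⟨V, f, hV, hf, le_rfl⟩, hxf⟩
      obtain ⟨a, s, hs⟩ := exists_gen M (isAffineOpen_preimage i hnil u g hg hV) f
        (M.presheaf.map (homOfLE hfZ).op m)
      refine ⟨_, PUnit.{u+1}, inferInstance, fun _ => V, fun _ => hY.trans (Tc.basicOpen_le f),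
        fun _ => Tc.presheaf.map (homOfLE hY).op a, fun _ => s, ?_, rfl⟩
      rw [comb, Finset.univ_unique, Finset.sum_singleton]
      have e := congrArg (M.presheaf.map (homOfLE hY).op) hs
      rw [Scheme.Modules.map_smul, CohBase.restr_trans, CohBase.restr_trans] at e
      exact e.symm)
  refine ⟨β, SheafOfModules.hom_ext (PresheafOfModules.hom_ext fun V => ModuleCat.hom_ext (LinearMap.ext fun s => ?_))⟩
  refine hβ ((Opens.map g).obj V.unop) s _ ⟨PUnit.{u+1}, inferInstance, fun _ => V.unop, fun _ => le_rfl,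
    fun _ => 1, fun _ => s, ?_, ?_⟩
  · rw [comb, Finset.univ_unique, Finset.sum_singleton, one_smul, CohBase.restr_self]
  · rw [comb, Finset.univ_unique, Finset.sum_singleton, one_smul, CohBase.restr_self]
    rfl

include hnil hg in
theorem faithful_push (a b : M ⟶ M') (h : (vPush g).map a = (vPush g).map b) : a = b := by
  refine Scheme.Modules.hom_ext _ _ fun Z => AddCommGrpCat.hom_ext (AddMonoidHom.ext fun m => ?_)
  refine eq_of_locally (M := M') (V := Z) ⟨⟨fun Y _ => ∃ (V : U.Opens) (f : Γ(Tc, (Opens.map g).obj V)),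
      IsAffineOpen V ∧ Tc.basicOpen f ≤ Z ∧ Y ≤ Tc.basicOpen f,
    fun ⟨V, f, h1, h3, h4⟩ k => ⟨V, f, h1, h3, k.le.trans h4⟩⟩, fun x hx => ?_,
    fun Y k ⟨V, f, hV, hfZ, hY⟩ => ?_⟩
  · obtain ⟨_, ⟨V, hV, rfl⟩, hxV, -⟩ := U.isBasis_affineOpens.exists_subset_of_mem_open
      (Set.mem_univ (g x)) isOpen_univ
    have hA : x ∈ (Opens.map g).obj V := hxV
    obtain ⟨f, hf, hxf⟩ := (isAffineOpen_preimage i hnil u g hg hV).exists_basicOpen_le ⟨x, hx⟩ hA
    exact ⟨Tc.basicOpen f, homOfLE hf, ⟨V, f, hV, hf, le_rfl⟩, hxf⟩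
  obtain ⟨c, s, hs⟩ := exists_gen M (isAffineOpen_preimage i hnil u g hg hV) f
    (M.presheaf.map (homOfLE hfZ).op m)
  have hab : a.app ((Opens.map g).obj V) s = b.app ((Opens.map g).obj V) s :=
    congrArg (fun φ : (vPush g).obj M ⟶ (vPush g).obj M' => (φ.val.app (op V)).hom s) h
  have hn : ∀ φ : M ⟶ M', M'.presheaf.map (homOfLE hfZ).op (φ.app Z m) =
      c • (M'.presheaf.map (homOfLE (Tc.basicOpen_le f)).op (φ.app ((Opens.map g).obj V) s) :
        Γ(M', Tc.basicOpen f)) := fun φ => by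
    refine (NatTrans.naturality_apply φ.mapPresheaf (homOfLE hfZ).op m).symm.trans ?_
    refine (congrArg (φ.app (Tc.basicOpen f)) hs).trans ?_
    rw [Scheme.Modules.Hom.app_smul]
    exact congrArg (c • ·) (NatTrans.naturality_apply φ.mapPresheaf (homOfLE (Tc.basicOpen_le f)).op s)
  have e := congrArg (M'.presheaf.map (homOfLE hY).op) ((hn a).trans ((congrArg (fun z => c •
    (M'.presheaf.map (homOfLE (Tc.basicOpen_le f)).op z : Γ(M', Tc.basicOpen f))) hab).trans (hn b).symm))
  rw [CohBase.restr_trans, CohBase.restr_trans] at e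
  exact e

include hnil hg in
theorem isIso_counit (M : Tc.Modules) [Coh.IsQCoh M] :
    IsIso ((SheafOfModules.pullbackPushforwardAdjunction (F := Opens.map g) (R := Tc.ringCatSheaf)
      (𝟙 (RP g))).counit.app M) := by
  let adj := SheafOfModules.pullbackPushforwardAdjunction (F := Opens.map g) (R := Tc.ringCatSheaf) (𝟙 (RP g))
  obtain ⟨β, hβ⟩ := exists_lift i hnil u g hg (adj.unit.app ((vPush g).obj M))
  have h1 : adj.counit.app M ≫ β = 𝟙 _ := by
    refine (adj.homEquiv _ _).injective ?_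
    rw [adj.homEquiv_unit, adj.homEquiv_unit, Functor.map_comp, adj.right_triangle_components_assoc, hβ]
    exact ((congrArg (adj.unit.app ((vPush g).obj M) ≫ ·) ((vPush g).map_id _)).trans (Category.comp_id _)).symm
  have h2 : β ≫ adj.counit.app M = 𝟙 M := by
    refine faithful_push (M := M) (M' := M) i hnil u g hg _ _ ?_
    refine ((vPush g).map_comp β (adj.counit.app M)).trans ?_
    rw [hβ]
    exact (adj.right_triangle_components M).trans ((vPush g).map_id M).symm
  exact ⟨β, h1, h2⟩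

end Groth.Agent.NilPushLib
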