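import Groth.Agent.NilPushLib.QC
import Groth.Agent.FComplLib.RelData
import Groth.Agent.FPLocal.Glue
import Groth.Agent.PullFlat.PullProps

/-! Inverse images of quasi-coherent modules along the map of ringed spaces of a thickening. -/

set_option autoImplicit false
set_option linter.style.haveILetI false
set_option linter.unusedVariables false
set_option backward.isDefEq.respectTransparency false
set_option backward.isDefEq.respectTransparency.types false
set_option maxHeartbeats 1000000

universe u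

open CategoryTheory CategoryTheory.Limits AlgebraicGeometry TopologicalSpace Opposite

noncomputable section

namespace Groth.Agent.NilPushLib

variable {T Tc U : Scheme.{u}} (g : Tc.carrier ⟶ U.carrier)

/-- The map of ringed spaces. -/
def vMor : ModSite.RMor (K := Opens.grothendieckTopology U) Tc.sheaf
    (((Opens.map g).sheafPushforwardContinuous CommRingCat.{u} (Opens.grothendieckTopology U)
      (Opens.grothendieckTopology Tc)).obj Tc.sheaf) where
  fn := Opens.map g
  exact := by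
    haveI : RepresentablyFlat (Opens.map g) := inferInstance
    exact preservesFiniteLimits_of_natIso (Functor.sheafPullbackConstruction.sheafPullbackIso (Opens.map g) (Type u) (Opens.grothendieckTopology U) (Opens.grothendieckTopology Tc)).symm
  sharp := 𝟙 _

example : (vMor g).pull = SheafOfModules.pullback (F := Opens.map g) (R := Tc.ringCatSheaf) (𝟙 (RP g)) := rfl

theorem isQuasicoherent_pull' (N : SheafOfModules.{u} (RP g)) [h : N.IsQuasicoherent] :
    ((SheafOfModules.pullback (F := Opens.map g) (R := Tc.ringCatSheaf) (𝟙 (RP g))).obj N).IsQuasicoherent :=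
  haveI : SheafOfModules.IsQuasicoherent.{u} (R := ModSite.ringSh (((Opens.map g).sheafPushforwardContinuous
    CommRingCat.{u} (Opens.grothendieckTopology U) (Opens.grothendieckTopology Tc)).obj Tc.sheaf)) N := h
  PullFlat.isQuasicoherent_pull (vMor g) (F := N)

variable (i : T ⟶ Tc) [IsClosedImmersion i]
  (hnil : ∃ n : ℕ, ∀ V : Tc.affineOpens, i.ker.ideal V ^ n = ⊥)
  (u : T ⟶ U) [IsAffineHom u] (hg : i.base ≫ g = u.base)
  (N : SheafOfModules.{u} (RP g))

theorem exists_of_locally {X : TopCat.{u}} {V : Opens X} {P : ∀ ⦃W : Opens X⦄, (W ⟶ V) → Prop}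
    (h : FPLocal.Locally (Opens.grothendieckTopology X) V P) {x : X} (hx : x ∈ V) :
    ∃ (W : Opens X) (k : W ⟶ V), x ∈ W ∧ P k := by
  obtain ⟨S, hS, hP⟩ := h
  obtain ⟨W, k, hk, hxW⟩ := hS x hx
  exact ⟨W, k, hxW, hP k hk⟩

theorem mk_locally {X : TopCat.{u}} {V : Opens X} {P : ∀ ⦃W : Opens X⦄, (W ⟶ V) → Prop}
    (h : ∀ x ∈ V, ∃ (W : Opens X) (k : W ⟶ V), x ∈ W ∧ ∀ (W' : Opens X) (l : W' ⟶ W), P (l ≫ k)) :
    FPLocal.Locally (Opens.grothendieckTopology X) V P := by
  refine ⟨⟨fun W k => ∀ (W' : Opens X) (l : W' ⟶ W), P (l ≫ k), fun {Y Z f} hf l W' l' => ?_⟩,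
    fun x hx => ?_, fun W k hk => ?_⟩
  · have := hf W' (l' ≫ l)
    rwa [Category.assoc] at this
  · obtain ⟨W, k, hxW, hk⟩ := h x hx
    exact ⟨W, k, hk, hxW⟩
  · have := hk W (𝟙 W)
    rwa [Category.id_comp] at this

omit [IsAffineHom u] in
/-- Every point has affine neighbourhoods with finite presentation data. -/
theorem exists_data [N.IsQuasicoherent] (X₀ : U.Opens) {x : U} (hx : x ∈ X₀) :
    ∃ (V : U.Opens), x ∈ V ∧ V ≤ X₀ ∧ IsAffineOpen V ∧ ∃ (I : Type u) (t : I → N.val.obj (op V)),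
      FCompl.GenFin N t ∧ FCompl.RelFin N t := by
  classical
  obtain ⟨q⟩ := SheafOfModules.IsQuasicoherent.nonempty_quasicoherentData (M := N)
  obtain ⟨W, k, hW, hxW⟩ := q.coversTop X₀ x hx
  obtain ⟨j, ⟨l⟩⟩ := (Sieve.mem_ofObjects_iff ..).1 hW
  obtain ⟨_, ⟨V, hV, rfl⟩, hxV, hVW⟩ := U.isBasis_affineOpens.exists_subset_of_mem_open hxW W.2
  let D := FCompl.relDataOfPresentation N (q.presentation j)
  have hle : V ≤ q.X j := le_trans hVW l.le
  let r : V ⟶ q.X j := homOfLE hle
  let t : D.I → N.val.obj (op V) := fun a => FPLocal.mres N r.op (D.t a)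
  refine ⟨V, hxV, le_trans hVW k.le, hV, D.I, t, fun W' k' m => ?_, fun W' k' S d hd0 hd => ?_⟩
  · refine (D.gen (k' ≫ r) m).mono fun Z h ⟨S, a, ha⟩ => ⟨S, a, Eq.trans (Finset.sum_congr rfl fun b _ => ?_) ha⟩
    exact congrArg (a b • ·) (FPLocal.mres_comp' (h ≫ k') r (D.t b)).symm
  -- the relations are finite over `V`
  have hfin : ∀ c : D.K, ∃ S : Finset D.I, (∀ a ∉ S, ((RP g).obj.map r.op).hom (D.r c a) = 0) ∧
      ∑ a ∈ S, ((RP g).obj.map r.op).hom (D.r c a) • t a = 0 := by
    intro c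
    choose Z kz hxZ hz using fun y : V => exists_of_locally (D.rel c) (hle y.2)
    choose S hS0 hS1 using hz
    obtain ⟨F, hF⟩ := (hV.isCompact).elim_finite_subcover (fun y : V => (Z y : Set U)) (fun y => (Z y).2)
      (fun y hy => Set.mem_iUnion.2 ⟨⟨y, hy⟩, hxZ ⟨y, hy⟩⟩)
    let S' := F.biUnion S
    have hsep : ∀ a ∉ S', ((RP g).obj.map r.op).hom (D.r c a) = 0 := by
      intro a ha
      refine TopCat.Sheaf.eq_of_locally_eq' Tc.sheaf (fun y : F => (Opens.map g).obj (Z y.1 ⊓ V))
        ((Opens.map g).obj V) (fun y => (Opens.map g).map (homOfLE inf_le_right)) (fun z hz => ?_)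
        (((RP g).obj.map r.op).hom (D.r c a) : Γ(Tc, (Opens.map g).obj V)) 0 fun y => ?_
      · obtain ⟨y, hyF, hy⟩ := Set.mem_iUnion₂.1 (hF (show g z ∈ V from hz))
        exact Opens.mem_iSup.2 ⟨⟨y, hyF⟩, hy, hz⟩
      · have e := congrArg ((RP g).obj.map (homOfLE inf_le_left : Z y.1 ⊓ V ⟶ Z y.1).op).hom
          (hS0 y.1 a fun h => ha (Finset.mem_biUnion.2 ⟨y.1, y.2, h⟩))
        rw [map_zero, ← CategoryTheory.comp_apply, ← Functor.map_comp, ← op_comp] at e
        refine Eq.trans ?_ (map_zero (Tc.presheaf.map ((Opens.map g).map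
          (homOfLE inf_le_right : Z y.1 ⊓ V ⟶ V)).op).hom).symm
        refine Eq.trans ?_ e
        exact (congr(($((RP g).obj.map_comp r.op (homOfLE inf_le_right : Z y.1 ⊓ V ⟶ V).op)).hom (D.r c a))).symm
    refine ⟨S', hsep, FPLocal.eq_of_locally (mk_locally fun z hz => ?_)⟩
    obtain ⟨y, hyF, hy⟩ := Set.mem_iUnion₂.1 (hF hz)
    refine ⟨Z y ⊓ V, homOfLE inf_le_right, ⟨hy, hz⟩, fun W' l => ?_⟩
    let w : W' ⟶ Z y := l ≫ homOfLE inf_le_left
    let p : W' ⟶ V := l ≫ homOfLE inf_le_right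
    have e := congrArg (FPLocal.mres N w.op) (hS1 y)
    rw [map_sum, map_zero] at e
    show FPLocal.mres N p.op _ = FPLocal.mres N p.op 0
    rw [map_zero, map_sum]
    refine Eq.trans ?_ e
    refine Eq.trans ?_ ((Finset.sum_subset (Finset.subset_biUnion_of_mem S hyF) fun a _ ha => ?_).symm)
    · refine Finset.sum_congr rfl fun a _ => ?_
      rw [FPLocal.mres_smul, FPLocal.mres_smul, ← CategoryTheory.comp_apply, ← CategoryTheory.comp_apply,
        ← Functor.map_comp, ← Functor.map_comp]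
      exact congrArg₂ (· • ·) rfl ((FPLocal.mres_comp' p r _).symm.trans (FPLocal.mres_comp' w (kz y) _))
    · rw [FPLocal.mres_smul, hS0 y a ha, map_zero, zero_smul]
  choose S' hS0' hS1' using hfin
  let c : D.K → FCompl.FinRel N t := fun b => ⟨Finsupp.onFinset (S' b)
      (fun a => ((RP g).obj.map r.op).hom (D.r b a)) (fun a h => by_contra fun h' => h (hS0' b a h')), by
    refine (Finsupp.onFinset_sum (g := fun a z => z • t a) _ (fun a => zero_smul _ _)).trans ?_
    exact hS1' b⟩
  refine (D.complete (k' ≫ r) S d hd0 (Eq.trans (Finset.sum_congr rfl fun a _ =>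
    congrArg (d a • ·) (FPLocal.mres_comp' k' r (D.t a))) hd)).mono fun Z h ⟨T₁, e, he⟩ => ?_
  refine ⟨T₁.image c, fun p => ∑ b ∈ T₁.filter (fun b => c b = p), e b, fun a => ?_⟩
  refine Eq.trans ?_ (he a)
  simp only [Finset.sum_mul]
  refine (Finset.sum_congr rfl fun p hp => Finset.sum_congr rfl fun b hb => ?_).trans
    (Finset.sum_fiberwise_of_maps_to (fun b hb => Finset.mem_image_of_mem c hb)
      (fun b => e b * ((RP g).obj.map (h ≫ k' ≫ r).op).hom (D.r b a)))
  obtain rfl := (Finset.mem_filter.1 hb).2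
  refine congrArg (e b * ·) ?_
  exact congr(($((RP g).obj.map_comp r.op (h ≫ k').op)).hom (D.r b a)).symm

/-- The unit on sections. -/
abbrev etaS {g : Tc.carrier ⟶ U.carrier} (N : SheafOfModules.{u} (RP g)) (V : U.Opens) :
    N.val.obj (op V) →ₗ[(RP g).obj.obj (op V)]
      ((vPush g).obj ((SheafOfModules.pullback (F := Opens.map g) (R := Tc.ringCatSheaf) (𝟙 (RP g))).obj N)).val.obj (op V) :=
  (((SheafOfModules.pullbackPushforwardAdjunction (F := Opens.map g) (R := Tc.ringCatSheaf)
    (𝟙 (RP g))).unit.app N).val.app (op V)).hom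

theorem eq_top_of_points {A : Tc.Opens} (hA : IsAffineOpen A) (J : Ideal Γ(Tc, A))
    (h : ∀ x ∈ A, ∃ f ∈ J, x ∈ Tc.basicOpen f) : (1 : Γ(Tc, A)) ∈ J := by
  rw [← Ideal.eq_top_iff_one, ← Ideal.span_eq J, ← hA.self_le_iSup_basicOpen_iff]
  intro x hx
  obtain ⟨f, hf, hxf⟩ := h x hx
  exact Opens.mem_iSup.2 ⟨⟨f, hf⟩, hxf⟩

/-- The kernel test. -/
abbrev vmor {g : Tc.carrier ⟶ U.carrier} := vMor (Tc := Tc) (U := U) g

theorem gen_id {V : U.Opens} (n : N.val.obj (op V)) :
    PullFlat.gen (vMor g) N V (𝟙 ((Opens.map g).obj V)) n = etaS N V n :=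
  FPLocal.mres_id (M := (SheafOfModules.pullback (F := Opens.map g) (R := Tc.ringCatSheaf) (𝟙 (RP g))).obj N) _

include hnil hg in
theorem injective_eta {V : U.Opens} (hV : IsAffineOpen V) {I : Type u} (t : I → N.val.obj (op V))
    (hR : FCompl.RelFin N t) (hG : FCompl.GenFin N t) (S₀ : Finset I) (a : I → (RP g).obj.obj (op V))
    (ha : ∀ j ∉ S₀, a j = 0) (h : etaS N V (∑ j ∈ S₀, a j • t j) = 0) : ∑ j ∈ S₀, a j • t j = 0 := by
  classical
  set n := ∑ j ∈ S₀, a j • t j with hn
  let A : Tc.Opens := (Opens.map g).obj V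
  have hA : IsAffineOpen A := isAffineOpen_preimage i hnil u g hg hV
  let Ann : Ideal Γ(Tc, A) :=
    { carrier := {f | (show (RP g).obj.obj (op V) from f) • n = 0}
      add_mem' := fun {a b} ha hb => by
        show (show (RP g).obj.obj (op V) from a + b) • n = 0
        exact (add_smul (show (RP g).obj.obj (op V) from a) (show (RP g).obj.obj (op V) from b) n).trans
          (by rw [ha, hb, add_zero])
      zero_mem' := zero_smul _ _
      smul_mem' := fun c f hf => (mul_smul (show (RP g).obj.obj (op V) from c) (show (RP g).obj.obj (op V) from f) n).trans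
          (by rw [hf, smul_zero]) }
  suffices h1 : (1 : Γ(Tc, A)) ∈ Ann from (one_smul _ n).symm.trans h1
  refine eq_top_of_points hA Ann fun x hx => ?_
  have h0 : ∑ k : Fin 1, (1 : Γ(Tc, A)) • PullFlat.gen (vMor g) N V (𝟙 A) ((fun _ => n) k) = 0 := by
    rw [Fin.sum_univ_one, gen_id, h]
    exact smul_zero _
  obtain ⟨W, k₁, hxW, V', α, ψ, -, l, m, t', Am, A', y, hy, hy', hAm⟩ :=
    exists_of_locally (PullFlat.loc_of_sum_gen_eq_zero (vMor g) N (𝟙 A) (fun _ => n) (fun _ => 1) h0) hx
  -- an open on which the auxiliary sections are combinations of the generators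
  obtain ⟨Z, j, hxZ, hZ⟩ := exists_of_locally
    (FPLocal.Locally.forall fun q : Fin l => hG α (t' q)) (show g x ∈ V' from ψ.le hxW)
  choose Sq b hb using hZ
  let S : Finset I := S₀ ∪ Finset.univ.biUnion Sq
  let R := fun (q : Fin m) (p : I) => ((RP g).obj.map j.op).hom (Am 0 q) * ((RP g).obj.map (j ≫ α).op).hom (a p) +
    ∑ r : Fin l, ((RP g).obj.map j.op).hom (A' r q) * (if p ∈ Sq r then b r p else 0)
  have hR0 : ∀ q, ∀ p ∉ S, R q p = 0 := fun q p hp => by
    simp only [S, Finset.mem_union, Finset.mem_biUnion, Finset.mem_univ, true_and, not_or, not_exists] at hp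
    refine (congrArg₂ (· + ·) ?_ (Finset.sum_eq_zero fun r _ => ?_)).trans (add_zero 0)
    · rw [ha p hp.1, map_zero, mul_zero]
    · rw [if_neg (hp.2 r), mul_zero]
  have hRz : ∀ q, ∑ p ∈ S, R q p • FPLocal.mres N (j ≫ α).op (t p) = 0 := fun q => by
    have e := congrArg (FPLocal.mres N j.op) (hAm q)
    rw [map_add, map_sum, map_sum, map_zero, Fin.sum_univ_one] at e
    refine Eq.trans ?_ e
    simp only [R, add_smul, Finset.sum_add_distrib, Finset.sum_smul, mul_smul]
    refine congrArg₂ (· + ·) ?_ ?_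
    · rw [← Finset.smul_sum, FPLocal.mres_smul]
      refine congrArg (((RP g).obj.map j.op).hom (Am 0 q) • ·) ?_
      refine Eq.trans ?_ ((FPLocal.mres_comp' j α n).trans (congrArg (FPLocal.mres N j.op) (by rw [hn]; exact map_sum _ _ _)))
      rw [hn, map_sum]
      refine Eq.trans (Finset.sum_subset Finset.subset_union_left fun p _ hp => ?_).symm
        (Finset.sum_congr rfl fun p _ => (FPLocal.mres_smul _ _ _).symm)
      rw [ha p hp, map_zero, zero_smul]
    · rw [Finset.sum_comm]
      refine Eq.trans (Finset.sum_congr rfl fun r _ => ?_) (map_sum (FPLocal.mres N j.op) _ _).symm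
      rw [← Finset.smul_sum, FPLocal.mres_smul]
      refine congrArg (((RP g).obj.map j.op).hom (A' r q) • ·) ?_
      refine Eq.trans ?_ (hb r)
      refine (Finset.sum_subset ((Finset.subset_biUnion_of_mem Sq (Finset.mem_univ r)).trans Finset.subset_union_right)
        fun p _ hp => ?_).symm.trans (Finset.sum_congr rfl fun p hp => ?_)
      · rw [if_neg hp, zero_smul]
      · rw [if_pos hp]
  obtain ⟨Z', j', hxZ', hZ'⟩ := exists_of_locally
    (FPLocal.Locally.forall fun q : Fin m => hR (j ≫ α) S (R q) (hR0 q) (hRz q)) hxZ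
  choose Tq e he using hZ'
  obtain ⟨f, hf, hxf⟩ := hA.exists_basicOpen_le
    ⟨x, (show x ∈ W ⊓ (Opens.map g).obj Z' from ⟨hxW, hxZ'⟩)⟩ hx
  -- restriction to the basic open
  let ρ : Tc.basicOpen f ⟶ W := homOfLE (hf.trans inf_le_left)
  let σ : Tc.basicOpen f ⟶ (Opens.map g).obj Z' := homOfLE (hf.trans inf_le_right)
  let T : Finset (FCompl.FinRel N t) := Finset.univ.biUnion Tq
  let E : FCompl.FinRel N t → Γ(Tc, Tc.basicOpen f) := fun c => ∑ q : Fin m,
    (Tc.presheaf.map ρ.op).hom (y q) * (Tc.presheaf.map σ.op).hom (if c ∈ Tq q then e q c else 0)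
  have key : ∀ p, (Tc.presheaf.map (homOfLE (Tc.basicOpen_le f)).op).hom (a p) =
      ∑ c ∈ T, E c * (Tc.presheaf.map (homOfLE (Tc.basicOpen_le f)).op).hom (c.1 p) := by
    intro p
    let rZ : (RP g).obj.obj (op V') →+* Γ(Tc, Tc.basicOpen f) :=
      (Tc.presheaf.map (ρ ≫ ψ).op).hom
    have h1 : (∑ q : Fin m, rZ (Am 0 q) * (Tc.presheaf.map ρ.op).hom (y q) : Γ(Tc, Tc.basicOpen f)) = 1 := by
      have e1 := congrArg (Tc.presheaf.map ρ.op).hom (hy 0)
      rw [map_sum] at e1
      refine Eq.trans ?_ (e1.symm.trans ((congrArg (Tc.presheaf.map ρ.op).hom (map_one _)).trans (map_one _)))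
      refine Finset.sum_congr rfl fun q _ => ?_
      rw [map_mul]
      exact congrArg (· * _) congr(($(Tc.presheaf.map_comp ψ.op ρ.op)).hom (Am 0 q))
    have h2 : ∀ r, (∑ q : Fin m, rZ (A' r q) * (Tc.presheaf.map ρ.op).hom (y q) : Γ(Tc, Tc.basicOpen f)) = 0 := by
      intro r
      have e1 := congrArg (Tc.presheaf.map ρ.op).hom (hy' r)
      rw [map_sum, map_zero] at e1
      refine Eq.trans ?_ e1
      refine Finset.sum_congr rfl fun q _ => ?_
      rw [map_mul]
      exact congrArg (· * _) congr(($(Tc.presheaf.map_comp ψ.op ρ.op)).hom (A' r q))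
    let sZ : (RP g).obj.obj (op Z') →+* Γ(Tc, Tc.basicOpen f) := (Tc.presheaf.map σ.op).hom
    let sR : (RP g).obj.obj (op Z) →+* Γ(Tc, Tc.basicOpen f) := sZ.comp ((RP g).obj.map j'.op).hom
    have hAm' : ∀ (z : (RP g).obj.obj (op V')), sR (((RP g).obj.map j.op).hom z) = rZ z := fun z => by
      show (Tc.presheaf.map σ.op).hom ((Tc.presheaf.map ((Opens.map g).map j').op).hom
        ((Tc.presheaf.map ((Opens.map g).map j).op).hom z)) = _
      rw [← CategoryTheory.comp_apply, ← CategoryTheory.comp_apply, ← Functor.map_comp, ← Functor.map_comp]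
      rfl
    have ha' : sR (((RP g).obj.map (j ≫ α).op).hom (a p)) =
        (Tc.presheaf.map (homOfLE (Tc.basicOpen_le f)).op).hom (a p) := by
      show (Tc.presheaf.map σ.op).hom ((Tc.presheaf.map ((Opens.map g).map j').op).hom
        ((Tc.presheaf.map ((Opens.map g).map (j ≫ α)).op).hom (a p))) = _
      rw [← CategoryTheory.comp_apply, ← CategoryTheory.comp_apply, ← Functor.map_comp, ← Functor.map_comp]
      rfl
    calc (Tc.presheaf.map (homOfLE (Tc.basicOpen_le f)).op).hom (a p)
        = ∑ q : Fin m, (Tc.presheaf.map ρ.op).hom (y q) * sR (R q p) := by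
          simp only [R, map_add, map_sum, map_mul, hAm', ha', mul_add, Finset.mul_sum, Finset.sum_add_distrib]
          rw [Finset.sum_comm (γ := Fin m)]
          refine Eq.trans ?_ (congrArg₂ (· + ·) rfl (Finset.sum_eq_zero fun r _ => ?_).symm)
          · rw [add_zero]
            refine Eq.trans ((congrArg (· * _) h1).trans (one_mul _)).symm ?_
            rw [Finset.sum_mul]
            exact Finset.sum_congr rfl fun q _ => by ring
          · refine Eq.trans (Finset.sum_congr rfl fun q _ => ?_)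
              ((Finset.sum_mul _ _ _).symm.trans ((congrArg (· * sR (if p ∈ Sq r then b r p else 0)) (h2 r)).trans
                (zero_mul _)))
            ring
      _ = ∑ c ∈ T, E c * (Tc.presheaf.map (homOfLE (Tc.basicOpen_le f)).op).hom (c.1 p) := by
          simp only [E, Finset.sum_mul]
          rw [Finset.sum_comm (γ := FCompl.FinRel N t)]
          refine Finset.sum_congr rfl fun q _ => ?_
          have e1 := congrArg sZ (he q p)
          rw [map_sum] at e1
          rw [show sR (R q p) = sZ (((RP g).obj.map j'.op).hom (R q p)) from rfl, ← e1, Finset.mul_sum]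
          refine Eq.trans ?_ (Finset.sum_subset (Finset.subset_biUnion_of_mem Tq (Finset.mem_univ q))
            fun c _ hc => ?_)
          · refine Finset.sum_congr rfl fun c hc => ?_
            rw [if_pos hc, map_mul, mul_assoc]
            refine congrArg₂ (· * ·) rfl (congrArg₂ (· * ·) rfl ?_)
            show (Tc.presheaf.map σ.op).hom ((Tc.presheaf.map ((Opens.map g).map (j' ≫ j ≫ α)).op).hom (c.1 p)) = _
            rw [← CategoryTheory.comp_apply, ← Functor.map_comp]
            rfl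
          · rw [if_neg hc, map_zero, mul_zero, zero_mul]
  -- clearing denominators
  letI : Algebra Γ(Tc, A) Γ(Tc, Tc.basicOpen f) :=
    (Tc.presheaf.map (homOfLE (Tc.basicOpen_le f)).op).hom.toAlgebra
  haveI := hA.isLocalization_basicOpen f
  obtain ⟨⟨_, M, rfl⟩, hM⟩ := IsLocalization.exist_integer_multiples (Submonoid.powers f) T E
  choose E' hE' using hM
  let E'' : FCompl.FinRel N t → Γ(Tc, A) := fun c => if hc : c ∈ T then E' c hc else 0
  have hk : ∀ p : I, ∃ K : ℕ, f ^ K * (f ^ M * (show Γ(Tc, A) from a p) -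
      ∑ c ∈ T, E'' c * (show Γ(Tc, A) from c.1 p)) = 0 := fun p => by
    have e1 : algebraMap Γ(Tc, A) Γ(Tc, Tc.basicOpen f) (f ^ M * (show Γ(Tc, A) from a p)) =
        algebraMap Γ(Tc, A) Γ(Tc, Tc.basicOpen f) (∑ c ∈ T, E'' c * (show Γ(Tc, A) from c.1 p)) := by
      rw [map_mul, map_sum]
      refine (congrArg (_ * ·) (key p)).trans (Finset.mul_sum _ _ _ |>.trans (Finset.sum_congr rfl fun c hc => ?_))
      rw [map_mul, show E'' c = E' c hc from dif_pos hc, hE' c hc, Algebra.smul_def, mul_assoc]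
      rfl
    obtain ⟨⟨_, K, rfl⟩, hK⟩ := (IsLocalization.eq_iff_exists (Submonoid.powers f) _).1 e1
    exact ⟨K, by rw [mul_sub]; exact sub_eq_zero.2 hK⟩
  choose K hK using hk
  let K₀ : ℕ := S₀.sup K + ∑ c ∈ T, c.1.support.sup K
  let b' : (RP g).obj.obj (op V) := show Γ(Tc, A) from f ^ (K₀ + M)
  refine ⟨f ^ (K₀ + M), ?_, ?_⟩
  · show b' • n = 0
    let S' : Finset I := S₀ ∪ T.biUnion fun c => c.1.support
    let w : I → (RP g).obj.obj (op V) := fun p =>
      show Γ(Tc, A) from f ^ K₀ * ∑ c ∈ T, E'' c * (show Γ(Tc, A) from c.1 p)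
    have hw : ∀ p ∈ S', b' * a p = w p := fun p hp => by
      have hKp : K p ≤ K₀ := by
        rcases Finset.mem_union.1 hp with hp | hp
        · exact (Finset.le_sup hp).trans (Nat.le_add_right _ _)
        · obtain ⟨c, hc, hpc⟩ := Finset.mem_biUnion.1 hp
          exact (Finset.le_sup hpc).trans ((Finset.single_le_sum (f := fun c => c.1.support.sup K)
            (fun _ _ => Nat.zero_le _) hc).trans (Nat.le_add_left _ _))
      show (f ^ (K₀ + M) * (show Γ(Tc, A) from a p) : Γ(Tc, A)) = f ^ K₀ * _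
      refine sub_eq_zero.1 ?_
      rw [pow_add, mul_assoc, ← mul_sub, ← Nat.sub_add_cancel hKp, pow_add, mul_assoc, hK p, mul_zero]
    have e1 : n = ∑ p ∈ S', a p • t p := by
      rw [hn]
      exact Finset.sum_subset Finset.subset_union_left fun p _ hp => by rw [ha p hp, zero_smul]
    rw [e1, Finset.smul_sum]
    refine (Finset.sum_congr rfl fun p hp => (mul_smul b' (a p) (t p)).symm.trans (congrArg (· • t p) (hw p hp))).trans ?_
    let cf : FCompl.FinRel N t → (RP g).obj.obj (op V) := fun c => show Γ(Tc, A) from f ^ K₀ * E'' c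
    have e2 : ∀ p, w p = ∑ c ∈ T, cf c * c.1 p := fun p => by
      show (f ^ K₀ * ∑ c ∈ T, E'' c * (show Γ(Tc, A) from c.1 p) : Γ(Tc, A)) = _
      rw [Finset.mul_sum]
      exact Finset.sum_congr rfl fun c _ => (mul_assoc _ _ _).symm
    simp only [e2, Finset.sum_smul, mul_smul]
    rw [Finset.sum_comm]
    refine Finset.sum_eq_zero fun c hc => ?_
    rw [← Finset.smul_sum, ← Finsupp.sum_of_support_subset c.1 (fun p hp => Finset.mem_union_right _
      (Finset.mem_biUnion.2 ⟨c, hc, hp⟩)) (fun p z => z • t p) (fun p _ => zero_smul _ _), c.2, smul_zero]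
  · rw [Scheme.mem_basicOpen _ _ _ hx, map_pow]
    exact ((Scheme.mem_basicOpen _ _ _ hx).1 hxf).pow _

/-- The inverse image as a module on the thickening. -/
abbrev vPull {g : Tc.carrier ⟶ U.carrier} (N : SheafOfModules.{u} (RP g)) : Tc.Modules :=
  (SheafOfModules.pullback (F := Opens.map g) (R := Tc.ringCatSheaf) (𝟙 (RP g))).obj N

include hnil hg in
theorem surjective_eta [N.IsQuasicoherent] {V : U.Opens} (hV : IsAffineOpen V) {I : Type u}
    (t : I → N.val.obj (op V)) (hG : FCompl.GenFin N t) (k : Γ(vPull N, (Opens.map g).obj V)) :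
    ∃ n, etaS N V n = k := by
  classical
  let A : Tc.Opens := (Opens.map g).obj V
  have hA : IsAffineOpen A := isAffineOpen_preimage i hnil u g hg hV
  haveI : Coh.IsQCoh (vPull N) := isQuasicoherent_pull' g N
  let J : Ideal Γ(Tc, A) :=
    { carrier := {f | ∃ n, etaS N V n = f • k}
      add_mem' := fun {a b} ⟨n, hn⟩ ⟨n', hn'⟩ => ⟨n + n', by
        refine (map_add (etaS N V) n n').trans ((congrArg₂ (· + ·) hn hn').trans ?_)
        exact (add_smul a b k).symm⟩
      zero_mem' := ⟨0, (map_zero (etaS N V)).trans (zero_smul _ k).symm⟩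
      smul_mem' := fun c f ⟨n, hn⟩ => ⟨(show (RP g).obj.obj (op V) from c) • n,
        (map_smul (etaS N V) _ n).trans ((congrArg (fun z => (show (RP g).obj.obj (op V) from c) • z) hn).trans
          (mul_smul c f k).symm)⟩ }
  suffices h1 : (1 : Γ(Tc, A)) ∈ J from h1.imp fun n hn => hn.trans (one_smul _ k)
  refine eq_top_of_points hA J fun x hx => ?_
  obtain ⟨W, k₁, hxW, V', ψ, l, y, E₀, hE⟩ :=
    exists_of_locally (PullFlat.loc_exists_gen (vMor g) N (ι := PUnit.{u + 1}) (fun _ => k)) hx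
  let V'' : U.Opens := V' ⊓ V
  let α : V'' ⟶ V := homOfLE inf_le_right
  let β : V'' ⟶ V' := homOfLE inf_le_left
  obtain ⟨Z, j, hxZ, hZ⟩ := exists_of_locally
    (FPLocal.Locally.forall fun q : Fin l => hG α (FPLocal.mres N β.op (y q)))
    (show g x ∈ V'' from ⟨ψ.le hxW, hx⟩)
  choose Sq b hb using hZ
  obtain ⟨f, hf, hxf⟩ := hA.exists_basicOpen_le
    ⟨x, (show x ∈ W ⊓ (Opens.map g).obj Z from ⟨hxW, hxZ⟩)⟩ hx
  let ρ : Tc.basicOpen f ⟶ W := homOfLE (hf.trans inf_le_left)
  let σ : Tc.basicOpen f ⟶ (Opens.map g).obj Z := homOfLE (hf.trans inf_le_right)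
  let τ : Tc.basicOpen f ⟶ A := homOfLE (Tc.basicOpen_le f)
  let e : Fin l → Γ(Tc, Tc.basicOpen f) := fun q => (Tc.presheaf.map ρ.op).hom (E₀ PUnit.unit q)
  let bb : Fin l → I → Γ(Tc, Tc.basicOpen f) := fun q p => (Tc.presheaf.map σ.op).hom (b q p)
  let S : Finset I := Finset.univ.biUnion Sq
  let c : I → Γ(Tc, Tc.basicOpen f) := fun p => ∑ q : Fin l, e q * if p ∈ Sq q then bb q p else 0
  have hk : (vPull N).presheaf.map τ.op k =
      ∑ p ∈ S, c p • ((vPull N).presheaf.map τ.op (etaS N V (t p)) : Γ(vPull N, Tc.basicOpen f)) := by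
    simp only [c, Finset.sum_smul, mul_smul]
    rw [Finset.sum_comm]
    have h1 : (vPull N).presheaf.map τ.op k = ModTensor.res (ModTensor.pre _ ((vMor g).pull.obj N)) ρ.op
        (ModTensor.res (ModTensor.pre _ ((vMor g).pull.obj N)) k₁.op k) :=
      ModTensor.res_comp (ModTensor.pre _ ((vMor g).pull.obj N)) k₁.op ρ.op k
    rw [h1, hE PUnit.unit, map_sum]
    refine Finset.sum_congr rfl fun q _ => ?_
    rw [← Finset.smul_sum]
    refine (ModTensor.res_smul (ModTensor.pre _ ((vMor g).pull.obj N)) ρ.op _ _).trans (congrArg (e q • ·) ?_)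
    rw [PullFlat.res_gen]
    have h2 : PullFlat.gen (vMor g) N V' (ρ ≫ ψ) (y q) =
        PullFlat.gen (vMor g) N Z σ (FPLocal.mres N j.op (FPLocal.mres N β.op (y q))) := by
      refine Eq.trans ?_ (congrArg (PullFlat.gen (vMor g) N Z σ) (FPLocal.mres_comp' j β (y q)))
      exact (congrArg (PullFlat.gen (vMor g) N V' · (y q)) (Subsingleton.elim _ _)).trans
        (PullFlat.gen_trans (vMor g) N σ (j ≫ β) (y q)).symm
    rw [h2, ← hb q]
    refine (PullFlat.gen_sum (vMor g) N Z σ _ _).trans ?_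
    refine Eq.trans (Finset.sum_congr rfl fun p hp => ?_) (Finset.sum_subset
      (Finset.subset_biUnion_of_mem Sq (Finset.mem_univ q)) fun p _ hp => ?_)
    · refine (PullFlat.gen_smul (vMor g) N Z σ (b q p) _).trans (congrArg₂ (· • ·) (if_pos hp).symm ?_)
      refine (PullFlat.gen_trans (vMor g) N σ (j ≫ α) (t p)).trans ?_
      rw [← gen_id g N (t p)]
      refine Eq.trans ?_ (PullFlat.res_gen (vMor g) N τ V (𝟙 A) (t p)).symm
      exact congrArg (PullFlat.gen (vMor g) N V · (t p)) (Subsingleton.elim _ _)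
    · rw [if_neg hp, zero_smul]
  let d : Option I → Γ(Tc, Tc.basicOpen f) := fun o => o.elim 1 fun p => -c p
  let tt : Option I → Γ(vPull N, A) := fun o => o.elim k fun p => etaS N V (t p)
  have hd : ∑ o ∈ Finset.insertNone S, d o • ((vPull N).presheaf.map τ.op (tt o) : Γ(vPull N, Tc.basicOpen f)) = 0 := by
    rw [Finset.sum_insertNone]
    simp only [d, tt, Option.elim, one_smul, neg_smul, Finset.sum_neg_distrib]
    rw [hk]
    exact add_neg_cancel _
  obtain ⟨M, bc, hbc, -, hbz⟩ := exists_relation (vPull N) hA f (Finset.insertNone S) d tt hd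
  refine ⟨bc none, ⟨-∑ p ∈ S, (show (RP g).obj.obj (op V) from bc (some p)) • t p, ?_⟩, ?_⟩
  · rw [Finset.sum_insertNone] at hbz
    rw [map_neg, map_sum]
    refine Eq.trans (congrArg Neg.neg (Finset.sum_congr rfl fun p _ => map_smul (etaS N V) _ (t p))) ?_
    exact (eq_neg_of_add_eq_zero_left hbz).symm
  · have e1 := hbc none Finset.none_mem_insertNone
    have e2 : x ∈ Tc.basicOpen ((Tc.presheaf.map τ.op).hom (bc none)) := by
      rw [e1]
      simp only [d, Option.elim, mul_one]
      rw [Scheme.mem_basicOpen _ _ _ hxf, map_pow]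
      refine IsUnit.pow _ ?_
      rw [TopCat.Presheaf.germ_res_apply]
      exact (Scheme.mem_basicOpen _ _ _ hx).1 hxf
    rw [Scheme.basicOpen_res] at e2
    exact e2.2

variable {N} in
theorem genFin_restrict {V V' : U.Opens} (p : V' ⟶ V) {I : Type u} {t : I → N.val.obj (op V)}
    (hG : FCompl.GenFin N t) : FCompl.GenFin N fun a => FPLocal.mres N p.op (t a) := by
  intro W k m
  refine (hG (k ≫ p) m).mono fun Z h ⟨S, a, ha⟩ => ⟨S, a, Eq.trans (Finset.sum_congr rfl fun b _ => ?_) ha⟩
  exact congrArg (a b • ·) (FPLocal.mres_comp' (h ≫ k) p (t b)).symm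

variable {N} in
theorem relFin_restrict {V V' : U.Opens} (p : V' ⟶ V) {I : Type u} {t : I → N.val.obj (op V)}
    (hR : FCompl.RelFin N t) : FCompl.RelFin N fun a => FPLocal.mres N p.op (t a) := by
  classical
  intro W k S d hd0 hd
  let ρ : (RP g).obj.obj (op V) →+* (RP g).obj.obj (op V') := ((RP g).obj.map p.op).hom
  let c : FCompl.FinRel N t → FCompl.FinRel N (fun a => FPLocal.mres N p.op (t a)) := fun z =>
    ⟨z.1.mapRange ρ (map_zero ρ), by
      refine (Finsupp.sum_mapRange_index (h := fun a w => w • FPLocal.mres N p.op (t a))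
        fun a => zero_smul _ _).trans ?_
      refine Eq.trans ?_ ((congrArg (FPLocal.mres N p.op) z.2).trans (map_zero _))
      rw [Finsupp.sum, Finsupp.sum, map_sum]
      exact Finset.sum_congr rfl fun a _ => (FPLocal.mres_smul _ _ _).symm⟩
  refine (hR (k ≫ p) S d hd0 (Eq.trans (Finset.sum_congr rfl fun a _ =>
    congrArg (d a • ·) (FPLocal.mres_comp' k p (t a))) hd)).mono fun Z h ⟨T₁, e, he⟩ => ?_
  refine ⟨T₁.image c, fun q => ∑ b ∈ T₁.filter (fun b => c b = q), e b, fun a => ?_⟩
  refine Eq.trans ?_ (he a)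
  simp only [Finset.sum_mul]
  refine (Finset.sum_congr rfl fun q hq => Finset.sum_congr rfl fun b hb => ?_).trans
    (Finset.sum_fiberwise_of_maps_to (fun b hb => Finset.mem_image_of_mem c hb)
      (fun b => e b * ((RP g).obj.map (h ≫ k ≫ p).op).hom (b.1 a)))
  obtain rfl := (Finset.mem_filter.1 hb).2
  refine congrArg (e b * ·) ?_
  exact congr(($((RP g).obj.map_comp p.op (h ≫ k).op)).hom (b.1 a)).symm

include hnil hg in
theorem isIso_eta [N.IsQuasicoherent] :
    IsIso ((SheafOfModules.pullbackPushforwardAdjunction (F := Opens.map g) (R := Tc.ringCatSheaf)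
      (𝟙 (RP g))).unit.app N) := by
  classical
  refine FPLocal.isIso_of_locally _ (fun V k => mk_locally fun x hx => ?_)
    (fun V m hm => mk_locally fun x hx => ?_)
  · obtain ⟨W, hxW, hWV, hW, I, t, hG, hR⟩ := exists_data g N V hx
    let p : W ⟶ V := homOfLE hWV
    obtain ⟨n, hn⟩ := surjective_eta g i hnil u hg N hW t hG
      (FPLocal.mres ((vPush g).obj (vPull N)) p.op k)
    refine ⟨W, p, hxW, fun W' l => ⟨FPLocal.mres N l.op n, ?_⟩⟩
    refine (FPLocal.app_mres _ l n).trans ?_
    exact (congrArg (FPLocal.mres ((vPush g).obj (vPull N)) l.op) hn).trans (FPLocal.mres_comp' l p k).symm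
  · obtain ⟨W, hxW, hWV, hW, I, t, hG, hR⟩ := exists_data g N V hx
    let p : W ⟶ V := homOfLE hWV
    obtain ⟨Z, j, hxZ, S, a, ha⟩ := exists_of_locally (hG (𝟙 W) (FPLocal.mres N p.op m)) hxW
    obtain ⟨_, ⟨Z', hZ', rfl⟩, hxZ', hle⟩ := U.isBasis_affineOpens.exists_subset_of_mem_open hxZ Z.2
    let q : Z' ⟶ Z := homOfLE hle
    let r : Z' ⟶ W := q ≫ j
    let a' : I → (RP g).obj.obj (op Z') := fun b => if b ∈ S then ((RP g).obj.map q.op).hom (a b) else 0
    have e : ∑ b ∈ S, a' b • FPLocal.mres N r.op (t b) = FPLocal.mres N (r ≫ p).op m := by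
      refine Eq.trans ?_ ((congrArg (FPLocal.mres N q.op) ha).trans ?_)
      · rw [map_sum]
        refine Finset.sum_congr rfl fun b hb => ?_
        rw [FPLocal.mres_smul]
        refine congrArg₂ (· • ·) (if_pos hb) ?_
        exact (congrArg (fun z => FPLocal.mres N z (t b)) (congrArg Quiver.Hom.op (Subsingleton.elim r _))).trans
          (FPLocal.mres_comp' q (j ≫ 𝟙 W) (t b))
      · exact (congrArg (FPLocal.mres N q.op) (FPLocal.mres_comp' j p m).symm).trans
          ((FPLocal.mres_comp' q (j ≫ p) m).symm.trans (congrArg (fun z => FPLocal.mres N z m)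
            (congrArg Quiver.Hom.op (Subsingleton.elim _ (r ≫ p)))))
    have h0 := injective_eta g i hnil u hg N hZ' (fun b => FPLocal.mres N r.op (t b))
      (relFin_restrict g r hR) (genFin_restrict g r hG) S a' (fun b hb => if_neg hb) (by
        rw [e]
        exact (FPLocal.app_mres _ (r ≫ p) m).trans ((congrArg (FPLocal.mres _ (r ≫ p).op) hm).trans (map_zero _)))
    refine ⟨Z', r ≫ p, hxZ', fun W' l => ?_⟩
    exact (FPLocal.mres_comp' l (r ≫ p) m).trans ((congrArg (FPLocal.mres N l.op) (e.symm.trans h0)).trans (map_zero _))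

end Groth.Agent.NilPushLib
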