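import Groth.Agent.NilPushLib.Basic
import Groth.Agent.FComplLib.QCCriterion
import Groth.Agent.QCohLib.FPSections
import Groth.Prelude.Def_Coh

/-! Quasi-coherent modules push forward to quasi-coherent modules along the map of ringed spaces of a
nilpotent thickening of a scheme affine over the base, and the counit is an isomorphism. -/

set_option autoImplicit false
set_option linter.style.haveILetI false
set_option linter.unusedVariables false
set_option backward.isDefEq.respectTransparency false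
set_option backward.isDefEq.respectTransparency.types false
set_option maxHeartbeats 1000000

universe u

open CategoryTheory CategoryTheory.Limits AlgebraicGeometry TopologicalSpace Opposite
open Groth.Agent.FPLocal

noncomputable section

namespace Groth.Agent.NilPushLib

/-- Coefficients of a linear relation on a basic open come from a relation on the affine open. -/
theorem exists_relation {X : Scheme.{u}} (M : X.Modules) [Coh.IsQCoh M] {A : X.Opens} (hA : IsAffineOpen A)
    (f : Γ(X, A)) {I : Type*} (S : Finset I) (d : I → Γ(X, X.basicOpen f)) (t : I → Γ(M, A))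
    (hd : ∑ i ∈ S, d i • (M.presheaf.map (homOfLE (X.basicOpen_le f)).op (t i) : Γ(M, X.basicOpen f)) = 0) :
    ∃ (N : ℕ) (b : I → Γ(X, A)), (∀ i ∈ S, X.presheaf.map (homOfLE (X.basicOpen_le f)).op (b i) =
        (X.presheaf.map (homOfLE (X.basicOpen_le f)).op f) ^ N * d i) ∧
      (∀ i ∉ S, b i = 0) ∧ ∑ i ∈ S, b i • t i = 0 := by
  classical
  letI : Algebra Γ(X, A) Γ(X, X.basicOpen f) := (X.presheaf.map (homOfLE (X.basicOpen_le f)).op).hom.toAlgebra
  letI := Module.compHom Γ(M, X.basicOpen f) (X.presheaf.map (homOfLE (X.basicOpen_le f)).op).hom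
  haveI := hA.isLocalization_basicOpen f
  obtain ⟨r, hr⟩ := QCohLib.exists_isLocalizedModule_res M hA f
  obtain ⟨⟨_, n, rfl⟩, hb⟩ := IsLocalization.exist_integer_multiples (Submonoid.powers f) S d
  choose b hb using hb
  let b' : I → Γ(X, A) := fun i => if h : i ∈ S then b i h else 0
  have hb' : ∀ i ∈ S, X.presheaf.map (homOfLE (X.basicOpen_le f)).op (b' i) =
      (X.presheaf.map (homOfLE (X.basicOpen_le f)).op f) ^ n * d i := fun i hi => by
    rw [show b' i = b i hi from dif_pos hi]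
    refine (hb i hi).trans ?_
    show (X.presheaf.map (homOfLE (X.basicOpen_le f)).op).hom (f ^ n) * d i = _
    rw [map_pow]
  have hz : M.presheaf.map (homOfLE (X.basicOpen_le f)).op (∑ i ∈ S, b' i • t i) = 0 := by
    rw [map_sum]
    refine Eq.trans (Finset.sum_congr rfl fun i hi => ?_) ((Finset.smul_sum (r := ((X.presheaf.map (homOfLE (X.basicOpen_le f)).op f) ^ n : Γ(X, X.basicOpen f)))).symm.trans
      ((congrArg (_ • ·) hd).trans (smul_zero _)))
    rw [Scheme.Modules.map_smul, hb' i hi, mul_smul]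
  obtain ⟨k, hk⟩ := (QCohLib.locAt M hA).kill f _ hz
  rw [show CohBase.sc (f ^ k) le_rfl (∑ i ∈ S, b' i • t i) = f ^ k • ∑ i ∈ S, b' i • t i from
    QCohLib.sc_le_rfl _ _] at hk
  refine ⟨k + n, fun i => f ^ k * b' i, fun i hi => ?_, fun i hi => ?_, ?_⟩
  · rw [map_mul, map_pow, hb' i hi, pow_add, mul_assoc]
  · show f ^ k * b' i = 0
    rw [show b' i = 0 from dif_neg hi, mul_zero]
  · refine Eq.trans ?_ hk
    rw [Finset.smul_sum]
    exact Finset.sum_congr rfl fun i _ => mul_smul _ _ _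

/-- A section on a basic open is a multiple of a section on the affine open. -/
theorem exists_gen {X : Scheme.{u}} (M : X.Modules) [Coh.IsQCoh M] {A : X.Opens} (hA : IsAffineOpen A)
    (f : Γ(X, A)) (m : Γ(M, X.basicOpen f)) :
    ∃ (a : Γ(X, X.basicOpen f)) (s : Γ(M, A)),
      m = a • (M.presheaf.map (homOfLE (X.basicOpen_le f)).op s : Γ(M, X.basicOpen f)) := by
  obtain ⟨n, s, hs⟩ := (QCohLib.locAt M hA).extend f m
  have hu : IsUnit ((X.presheaf.map (homOfLE (X.basicOpen_le f)).op).hom (f ^ n)) := by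
    rw [map_pow]
    exact (X.toRingedSpace.isUnit_res_basicOpen f).pow n
  obtain ⟨w, hw⟩ := hu
  refine ⟨(↑w⁻¹ : Γ(X, X.basicOpen f)), s, ?_⟩
  rw [hs]
  show m = (↑w⁻¹ : Γ(X, X.basicOpen f)) • ((X.presheaf.map (homOfLE (X.basicOpen_le f)).op).hom (f ^ n) • m)
  rw [← hw, smul_smul, Units.inv_mul, one_smul]

variable {T Tc U : Scheme.{u}}

/-- The direct image of the structure sheaf. -/
abbrev RP (g : Tc.carrier ⟶ U.carrier) : Sheaf (Opens.grothendieckTopology U) RingCat.{u} :=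
  ((Opens.map g).sheafPushforwardContinuous RingCat.{u} (Opens.grothendieckTopology U)
    (Opens.grothendieckTopology Tc)).obj Tc.ringCatSheaf

/-- The direct image functor. -/
abbrev vPush (g : Tc.carrier ⟶ U.carrier) : Tc.Modules ⥤ SheafOfModules.{u} (RP g) :=
  SheafOfModules.pushforward (F := Opens.map g) (R := Tc.ringCatSheaf) (𝟙 (RP g))

variable (i : T ⟶ Tc) [IsClosedImmersion i]
  (hnil : ∃ n : ℕ, ∀ V : Tc.affineOpens, i.ker.ideal V ^ n = ⊥)
  (u : T ⟶ U) [IsAffineHom u] (g : Tc.carrier ⟶ U.carrier) (hg : i.base ≫ g = u.base)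

include hnil hg in
/-- Preimages of basic opens are basic opens. -/
theorem exists_basicOpen {V : U.Opens} (hV : IsAffineOpen V) (h : Γ(U, V)) :
    ∃ h' : Γ(Tc, (Opens.map g).obj V), (Opens.map g).obj (U.basicOpen h) = Tc.basicOpen h' := by
  have e : i ⁻¹ᵁ ((Opens.map g).obj V : Tc.Opens) = u ⁻¹ᵁ V := by
    ext x
    show g (i.base x) ∈ V ↔ u.base x ∈ V
    rw [← hg]
    rfl
  obtain ⟨h', hh'⟩ := i.app_surjective ((Opens.map g).obj V) (isAffineOpen_preimage i hnil u g hg hV)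
    (T.presheaf.map (eqToHom e).op (u.app V h))
  refine ⟨h', ?_⟩
  have e2 : i ⁻¹ᵁ Tc.basicOpen h' = u ⁻¹ᵁ U.basicOpen h := by
    rw [Scheme.preimage_basicOpen, hh', Scheme.basicOpen_res_eq, Scheme.preimage_basicOpen]
  ext x
  obtain ⟨y, rfl⟩ := surjective i hnil x
  show g (i.base y) ∈ U.basicOpen h ↔ y ∈ i ⁻¹ᵁ Tc.basicOpen h'
  rw [e2, ← hg]
  rfl

variable (M : Tc.Modules) [Coh.IsQCoh M]

include hnil hg in
theorem isQuasicoherent_push : SheafOfModules.IsQuasicoherent.{u} ((vPush g).obj M) := by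
  classical
  refine FCompl.isQuasicoherent_of_genFin _ fun X => ?_
  refine ⟨⟨fun V _ => ∃ V', IsAffineOpen V' ∧ V ≤ V', fun ⟨V', hV', hle⟩ k => ⟨V', hV', k.le.trans hle⟩⟩,
    fun x hx => ?_, fun V _ ⟨V', hV', hle⟩ => ?_⟩
  · obtain ⟨_, ⟨V, hV, rfl⟩, hxV, hVX⟩ := U.isBasis_affineOpens.exists_subset_of_mem_open hx X.2
    exact ⟨V, homOfLE hVX, ⟨V, hV, le_rfl⟩, hxV⟩
  refine ⟨V', homOfLE hle, Γ(M, (Opens.map g).obj V'), fun s => s, fun W k m => ?_,
    fun W k S d hd0 hd => ?_⟩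
  · refine ⟨⟨fun Z _ => ∃ h : Γ(U, V'), Z ≤ U.basicOpen h ∧ U.basicOpen h ≤ W,
      fun ⟨h, h1, h2⟩ l => ⟨h, l.le.trans h1, h2⟩⟩, fun x hx => ?_, fun Z l ⟨h, h1, h2⟩ => ?_⟩
    · obtain ⟨h, hh, hxh⟩ := hV'.exists_basicOpen_le ⟨x, hx⟩ (k.le hx)
      exact ⟨U.basicOpen h, homOfLE hh, ⟨h, le_rfl, hh⟩, hxh⟩
    obtain ⟨h', hh'⟩ := exists_basicOpen i hnil u g hg hV' h
    have hW : Tc.basicOpen h' ≤ (Opens.map g).obj W := hh' ▸ ((Opens.map g).map (homOfLE h2)).le
    have hZ : (Opens.map g).obj Z ≤ Tc.basicOpen h' := hh' ▸ ((Opens.map g).map (homOfLE h1)).le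
    obtain ⟨a, s, hs⟩ := exists_gen M (isAffineOpen_preimage i hnil u g hg hV') h'
      (M.presheaf.map (homOfLE hW).op m)
    refine ⟨{s}, fun _ => Tc.presheaf.map (homOfLE hZ).op a, ?_⟩
    rw [Finset.sum_singleton]
    have e := congrArg (M.presheaf.map (homOfLE hZ).op) hs
    rw [Scheme.Modules.map_smul, CohBase.restr_trans, CohBase.restr_trans] at e
    exact e.symm
  · refine ⟨⟨fun Z _ => ∃ h : Γ(U, V'), Z ≤ U.basicOpen h ∧ U.basicOpen h ≤ W,
      fun ⟨h, h1, h2⟩ l => ⟨h, l.le.trans h1, h2⟩⟩, fun x hx => ?_, fun Z l ⟨h, h1, h2⟩ => ?_⟩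
    · obtain ⟨h, hh, hxh⟩ := hV'.exists_basicOpen_le ⟨x, hx⟩ (k.le hx)
      exact ⟨U.basicOpen h, homOfLE hh, ⟨h, le_rfl, hh⟩, hxh⟩
    obtain ⟨h', hh'⟩ := exists_basicOpen i hnil u g hg hV' h
    have hW : Tc.basicOpen h' ≤ (Opens.map g).obj W := hh' ▸ ((Opens.map g).map (homOfLE h2)).le
    have hZ : (Opens.map g).obj Z ≤ Tc.basicOpen h' := hh' ▸ ((Opens.map g).map (homOfLE h1)).le
    obtain ⟨N, b, hb, hb0, hbs⟩ := exists_relation M (isAffineOpen_preimage i hnil u g hg hV') h' S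
      (fun s => Tc.presheaf.map (homOfLE hW).op (d s)) (fun s => s) (by
        have e := congrArg (M.presheaf.map (homOfLE hW).op) hd
        rw [map_sum, map_zero] at e
        refine Eq.trans (Finset.sum_congr rfl fun s _ => ?_) e
        refine Eq.trans ?_ (Scheme.Modules.map_smul M (homOfLE hW) (d s) _).symm
        exact congrArg (_ • ·) (CohBase.restr_trans M _ _ _).symm)
    let c : FCompl.FinRel ((vPush g).obj M) (fun s : Γ(M, (Opens.map g).obj V') => s) :=
      ⟨Finsupp.onFinset S b (fun s hs => by_contra fun h => hs (hb0 s h)), by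
        refine (Finsupp.onFinset_sum (g := fun s a => a • s) _ (fun s => zero_smul _ _)).trans ?_
        exact hbs⟩
    have hu : IsUnit (((Tc.presheaf.map (homOfLE (Tc.basicOpen_le h')).op).hom h' : Γ(Tc, Tc.basicOpen h')) ^ N) :=
      IsUnit.pow N (Tc.toRingedSpace.isUnit_res_basicOpen h')
    obtain ⟨w, hw⟩ := hu
    refine ⟨{c}, fun _ => Tc.presheaf.map (homOfLE hZ).op (↑w⁻¹ : Γ(Tc, Tc.basicOpen h')), fun s => ?_⟩
    rw [Finset.sum_singleton]
    show (Tc.presheaf.map (homOfLE hZ).op).hom (↑w⁻¹ : Γ(Tc, Tc.basicOpen h')) *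
      (Tc.presheaf.map ((Opens.map g).map (l ≫ k)).op).hom (b s) =
        (Tc.presheaf.map ((Opens.map g).map l).op).hom (d s)
    have key : (Tc.presheaf.map (homOfLE (Tc.basicOpen_le h')).op).hom (b s) =
        (↑w : Γ(Tc, Tc.basicOpen h')) * (Tc.presheaf.map (homOfLE hW).op).hom (d s) := by
      by_cases hs : s ∈ S
      · rw [hw]; exact hb s hs
      · rw [hb0 s hs, hd0 s hs, map_zero, map_zero, mul_zero]
    have e := congrArg (Tc.presheaf.map (homOfLE hZ).op).hom key
    rw [map_mul, ← CategoryTheory.comp_apply, ← CategoryTheory.comp_apply, ← Functor.map_comp,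
      ← Functor.map_comp] at e
    refine (congrArg (_ * ·) e).trans ?_
    rw [← mul_assoc, ← map_mul, Units.inv_mul, map_one, one_mul]
    rfl

end Groth.Agent.NilPushLib
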